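import Groth.Agent.Lib.Sep.Basic
import Mathlib.RingTheory.Kaehler.JacobiZariski
import Mathlib.RingTheory.Smooth.Basic
import Mathlib.Algebra.CharP.Frobenius

/-!
A field extension with finite `H¹` of the cotangent complex is formally smooth over a subfield
of the base of cofinite `p`-rank.
-/

universe u

open scoped TensorProduct

namespace Groth.Agent.ArtinSubH7

variable {k : Type u} [Field k] (p : ℕ) [Fact p.Prime] [CharP k p]

/-- A subfield containing the `p`-th powers and a set whose differentials span is everything. -/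
theorem eq_top_of_pow_mem_of_span (B : Set k)
    (hB : Submodule.span k (KaehlerDifferential.D ℤ k '' B) = ⊤) (S : Subfield k) (hp : ∀ x, x ^ p ∈ S)
    (hBS : B ⊆ S) : S = ⊤ := by
  by_contra h
  obtain ⟨y, -, hy⟩ := SetLike.exists_of_lt (lt_top_iff_ne_top.2 h)
  obtain ⟨d, hd⟩ := KaehlerSubfield.exists_derivation p S hp hy
  let d' : Derivation ℤ k k := d.restrictScalars ℤ
  have h0 : d'.liftKaehlerDifferential = 0 := by
    refine LinearMap.ext_on hB ?_
    rintro _ ⟨b, hb, rfl⟩
    rw [Derivation.liftKaehlerDifferential_comp_D, LinearMap.zero_apply]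
    show d b = 0
    exact d.map_algebraMap (⟨b, hBS hb⟩ : S)
  refine one_ne_zero (α := k) ?_
  rw [← hd]
  show d' y = 0
  rw [← Derivation.liftKaehlerDifferential_comp_D d' y, h0, LinearMap.zero_apply]

/-- A subfield containing the `p ^ m`-th powers and a set whose differentials span is everything. -/
theorem eq_top_of_pow_pow_mem_of_span (B : Set k)
    (hB : Submodule.span k (KaehlerDifferential.D ℤ k '' B) = ⊤) (S : Subfield k) (m : ℕ)
    (hp : ∀ x, x ^ p ^ m ∈ S) (hBS : B ⊆ S) : S = ⊤ := by
  induction m with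
  | zero => exact eq_top_iff.2 fun x _ => by simpa using hp x
  | succ m ih =>
    refine ih fun x => ?_
    have h := eq_top_of_pow_mem_of_span p B hB (S.comap (iterateFrobenius k p m)) (fun x => ?_) fun b hb => ?_
    · exact Subfield.mem_comap.1 (h.ge (Subfield.mem_top x))
    · rw [Subfield.mem_comap, iterateFrobenius_def, ← pow_mul, ← pow_succ']
      exact hp x
    · rw [SetLike.mem_coe, Subfield.mem_comap, iterateFrobenius_def]
      exact pow_mem (hBS hb) _

/-- The differentials of a generated subfield are spanned by those of the generators. -/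
theorem span_D_closure (B : Set k) :
    Submodule.span (Subfield.closure B) (KaehlerDifferential.D ℤ (Subfield.closure B) ''
      {x | (x : k) ∈ B}) = ⊤ := by
  rw [eq_top_iff, ← KaehlerDifferential.span_range_derivation, Submodule.span_le]
  rintro _ ⟨⟨x, hx⟩, rfl⟩
  set N := Submodule.span (Subfield.closure B) (KaehlerDifferential.D ℤ (Subfield.closure B) ''
      {x | (x : k) ∈ B})
  refine Subfield.closure_induction (p := fun x hx => KaehlerDifferential.D ℤ (Subfield.closure B) ⟨x, hx⟩ ∈ N)
    ?_ ?_ ?_ ?_ ?_ ?_ hx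
  · exact fun b hb => Submodule.subset_span ⟨_, hb, rfl⟩
  · rw [show (⟨1, one_mem _⟩ : Subfield.closure B) = 1 from rfl, Derivation.map_one_eq_zero]
    exact N.zero_mem
  · intro x y hx hy h1 h2
    rw [show (⟨x + y, add_mem hx hy⟩ : Subfield.closure B) = ⟨x, hx⟩ + ⟨y, hy⟩ from rfl, map_add]
    exact N.add_mem h1 h2
  · intro x hx h1
    rw [show (⟨-x, neg_mem hx⟩ : Subfield.closure B) = -⟨x, hx⟩ from rfl, map_neg]
    exact N.neg_mem h1
  · intro x hx h1
    rw [show (⟨x⁻¹, inv_mem hx⟩ : Subfield.closure B) = (⟨x, hx⟩ : Subfield.closure B)⁻¹ from rfl,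
      Derivation.leibniz_inv]
    exact N.smul_mem _ h1
  · intro x y hx hy h1 h2
    rw [show (⟨x * y, mul_mem hx hy⟩ : Subfield.closure B) = ⟨x, hx⟩ * ⟨y, hy⟩ from rfl, Derivation.leibniz]
    exact N.add_mem (N.smul_mem _ h2) (N.smul_mem _ h1)

/-- A finite kernel of `K ⊗ Ω_k → Ω_K` gives a subfield of cofinite `p`-rank over which the extension is
formally smooth. -/
theorem exists_formallySmooth_subfield_of_ker (K : Type u) [Field K] [Algebra k K]
    (hfin : (LinearMap.ker (KaehlerDifferential.mapBaseChange ℤ k K)).FG) :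
    ∃ (k₀ : Subfield k) (F : Finset k), Algebra.FormallySmooth k₀ K ∧
      ∀ (S : Subfield k) (m : ℕ), (∀ x, x ^ p ^ m ∈ S) → k₀ ≤ S → (F : Set k) ⊆ S → S = ⊤ := by
  classical
  obtain ⟨b, hb, hspan, hli⟩ := exists_linearIndependent k (Set.range (KaehlerDifferential.D ℤ k))
  rw [KaehlerDifferential.span_range_derivation] at hspan
  choose g hg using fun i : b => hb i.2
  let bd : Module.Basis b k Ω[k⁄ℤ] := Module.Basis.mk hli (by rw [Subtype.range_coe]; exact hspan.ge)
  let bK := bd.baseChange K
  obtain ⟨G, hG⟩ := hfin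
  let F₀ : Finset b := G.biUnion fun w => (bK.repr w).support
  have hker : ∀ w, KaehlerDifferential.mapBaseChange ℤ k K w = 0 → (bK.repr w).support ⊆ F₀ := by
    intro w hw
    rw [← LinearMap.mem_ker, ← hG] at hw
    have : bK.repr w ∈ Finsupp.supported K K (F₀ : Set b) := by
      refine (Submodule.span_le (p := (Finsupp.supported K K (F₀ : Set b)).comap bK.repr.toLinearMap)).2
        (fun v hv => ?_) hw
      exact (Finsupp.mem_supported (R := K) (M := K) _).2
        (Finset.coe_subset.2 (Finset.subset_biUnion_of_mem (fun w => (bK.repr w).support) hv))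
    exact Finset.coe_subset.1 ((Finsupp.mem_supported _ _).1 this)
  let k₀ : Subfield k := Subfield.closure (g '' (↑F₀)ᶜ)
  refine ⟨k₀, F₀.image g, ?_, fun S m hp h0 hF => ?_⟩
  · rw [Sep.formallySmooth_iff_injective]
    let T : ((↑F₀)ᶜ : Set b) → K ⊗[k₀] Ω[k₀⁄ℤ] := fun i =>
      1 ⊗ₜ KaehlerDifferential.D ℤ k₀ ⟨g i, Subfield.subset_closure ⟨i, i.2, rfl⟩⟩
    have hsp : ⊤ ≤ Submodule.span K (Set.range T) := by
      rintro w -
      induction w using TensorProduct.induction_on with
      | zero => exact zero_mem _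
      | add x y hx hy => exact add_mem hx hy
      | tmul c d =>
        have hd : d ∈ Submodule.span k₀ (KaehlerDifferential.D ℤ k₀ '' {x | (x : k) ∈ g '' (↑F₀)ᶜ}) := by
          rw [span_D_closure]; exact Submodule.mem_top
        have h1 : (1 : K) ⊗ₜ[k₀] d ∈ Submodule.span K (Set.range T) := by
          refine (Submodule.span_le (p := ((Submodule.span K (Set.range T)).restrictScalars k₀).comap
            (TensorProduct.mk k₀ K Ω[k₀⁄ℤ] 1))).2 ?_ hd
          rintro _ ⟨x, ⟨i, hi, hix⟩, rfl⟩
          exact Submodule.subset_span ⟨⟨i, hi⟩, by simp only [T]; congr⟩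
        rw [show c ⊗ₜ[k₀] d = c • ((1 : K) ⊗ₜ[k₀] d) by rw [TensorProduct.smul_tmul', smul_eq_mul, mul_one]]
        exact Submodule.smul_mem _ c h1
    have hli' : LinearIndependent K fun i => KaehlerDifferential.mapBaseChange ℤ k₀ K (T i) := by
      have hv : ∀ i, KaehlerDifferential.mapBaseChange ℤ k₀ K (T i) =
          KaehlerDifferential.mapBaseChange ℤ k K (bK i.1) := by
        intro i
        simp only [T, bK, Module.Basis.baseChange_apply, KaehlerDifferential.mapBaseChange_tmul, one_smul,
          KaehlerDifferential.map_D, bd, Module.Basis.mk_apply]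
        rw [← hg i.1, KaehlerDifferential.map_D]
        rfl
      simp only [hv]
      refine (bK.linearIndependent.comp _ Subtype.val_injective).map ?_
      rw [Submodule.disjoint_def]
      intro w hw hw0
      have h1 : bK.repr w ∈ Finsupp.supported K K ((↑F₀)ᶜ : Set b) := by
        rw [show Set.range (bK ∘ Subtype.val) = bK '' ((↑F₀)ᶜ : Set b) by
          rw [Set.range_comp, Subtype.range_coe]] at hw
        exact (Finsupp.mem_supported _ _).2 (bK.repr_support_subset_of_mem_span _ hw)
      have h2 := hker w (LinearMap.mem_ker.1 hw0)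
      rw [← bK.repr.map_eq_zero_iff, ← Finsupp.support_eq_empty, Finset.eq_empty_iff_forall_notMem]
      exact fun i hi => (Finsupp.mem_supported _ _).1 h1 hi (h2 hi)
    rw [← LinearMap.ker_eq_bot, Submodule.eq_bot_iff]
    intro w hw
    obtain ⟨c, rfl⟩ := (Finsupp.mem_span_range_iff_exists_finsupp).1 (hsp (Submodule.mem_top (x := w)))
    have := linearIndependent_iff.1 hli' c
    rw [LinearMap.mem_ker, map_finsuppSum] at hw
    simp only [map_smul] at hw
    rw [this (by rw [Finsupp.linearCombination_apply]; exact hw), Finsupp.sum_zero_index]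
  · refine eq_top_of_pow_pow_mem_of_span p (Set.range g) ?_ S m hp ?_
    · rw [← Set.range_comp, show (KaehlerDifferential.D ℤ k ∘ g) = ((↑) : b → Ω[k⁄ℤ]) from funext hg,
        Subtype.range_coe]
      exact hspan
    · rintro _ ⟨i, rfl⟩
      by_cases hi : i ∈ F₀
      · exact hF (Finset.mem_coe.2 (Finset.mem_image_of_mem g hi))
      · exact h0 (Subfield.subset_closure ⟨i, hi, rfl⟩)

/-- Finite `H¹` gives a subfield of cofinite `p`-rank over which the extension is formally smooth. -/
theorem exists_formallySmooth_subfield (K : Type u) [Field K] [Algebra k K]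
    (hH : Module.Finite K (Algebra.H1Cotangent k K)) :
    ∃ (k₀ : Subfield k) (F : Finset k), Algebra.FormallySmooth k₀ K ∧
      ∀ (S : Subfield k) (m : ℕ), (∀ x, x ^ p ^ m ∈ S) → k₀ ≤ S → (F : Set k) ⊆ S → S = ⊤ :=
  exists_formallySmooth_subfield_of_ker p K (by
    rw [(Algebra.H1Cotangent.exact_δ_mapBaseChange ℤ k K).linearMap_ker_eq, LinearMap.range_eq_map]
    exact Submodule.FG.map _ Module.Finite.fg_top)

end Groth.Agent.ArtinSubH7
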