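import Groth.Agent.Lib.ArtinSubH7.Field
import Mathlib.RingTheory.Artinian.Ring
import Mathlib.RingTheory.EssentialFiniteness
import Mathlib.RingTheory.LocalRing.ResidueField.Basic
import Mathlib.RingTheory.Flat.Stability
import Mathlib.FieldTheory.IntermediateField.Adjoin.Basic
import Mathlib.RingTheory.TensorProduct.Free

/-!
Artinian local algebras are flat over subalgebras essentially of finite type.
-/

universe u

open scoped TensorProduct

namespace Groth.Agent.ArtinSubH7

open IsLocalRing

variable {Λ : Type u} [CommRing Λ] [IsArtinianRing Λ] [IsLocalRing Λ]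

/-- An Artinian local ring is finite over a coefficient field. -/
theorem finite_of_coefficientField [Algebra (ResidueField Λ) Λ]
    (hσ : ∀ c : ResidueField Λ, residue Λ (algebraMap (ResidueField Λ) Λ c) = c) :
    Module.Finite (ResidueField Λ) Λ := by
  let K := ResidueField Λ
  obtain ⟨n, hn⟩ : IsNilpotent (maximalIdeal Λ) :=
    IsArtinianRing.isNilpotent_jacobson_bot.imp' id fun m h => by
      rwa [IsLocalRing.jacobson_eq_maximalIdeal (⊥ : Ideal Λ) bot_ne_top] at h
  suffices ∀ i j, n ≤ j + i → ((maximalIdeal Λ ^ j : Ideal Λ).restrictScalars K).FG by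
    have := this n 0 (by omega)
    rw [pow_zero, Ideal.one_eq_top, Submodule.restrictScalars_top] at this
    exact ⟨this⟩
  intro i
  induction i with
  | zero =>
    intro j hj
    rw [show maximalIdeal Λ ^ j = ⊥ from eq_bot_iff.2 ((Ideal.pow_le_pow_right (by omega)).trans hn.le),
      Submodule.restrictScalars_bot]
    exact Submodule.fg_bot
  | succ i ih =>
    intro j hj
    obtain ⟨G, hG⟩ := IsNoetherian.noetherian (maximalIdeal Λ ^ j : Ideal Λ)
    obtain ⟨G', hG'⟩ := ih (j + 1) (by omega)
    classical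
    refine ⟨G ∪ G', le_antisymm (Submodule.span_le.2 fun v hv => ?_) fun v hv => ?_⟩
    · rcases Finset.mem_union.1 hv with h | h
      · exact hG.le (Submodule.subset_span h)
      · exact Ideal.pow_le_pow_right (Nat.le_succ j) (hG'.le (Submodule.subset_span h))
    · have hv' : v ∈ Submodule.span Λ (G : Set Λ) := hG.ge hv
      have h' : ((maximalIdeal Λ ^ (j + 1) : Ideal Λ).restrictScalars K) ≤
          Submodule.span K ((G ∪ G' : Finset Λ) : Set Λ) := by
        rw [← hG']; exact Submodule.span_mono (by simp)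
      obtain ⟨f, hf⟩ := Submodule.mem_span_finset.1 hv'
      rw [← hf.2]
      refine Submodule.sum_mem _ fun g hg => ?_
      have hgm : g ∈ maximalIdeal Λ ^ j := hG.le (Submodule.subset_span hg)
      rw [show f g • g = (residue Λ (f g)) • g + (f g - algebraMap K Λ (residue Λ (f g))) * g by
        rw [smul_eq_mul, Algebra.smul_def (residue Λ (f g)) g]; ring]
      refine add_mem (Submodule.smul_mem _ _ (Submodule.subset_span (Finset.mem_union_left _ hg))) (h' ?_)
      rw [Submodule.restrictScalars_mem, pow_succ']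
      refine Ideal.mul_mem_mul ?_ hgm
      rw [← residue_eq_zero_iff, map_sub, hσ, sub_self]

variable {k : Type u} [Field k] [Algebra k Λ]

theorem exists_subalgebra_of_ker (p : ℕ) [Fact p.Prime] [CharP k p]
    (hfin : (LinearMap.ker (KaehlerDifferential.mapBaseChange ℤ k (ResidueField Λ))).FG) (E : Finset Λ) :
    ∃ (A : Subalgebra k Λ) (_ : IsLocalRing A), (↑E : Set Λ) ⊆ A ∧ IsArtinianRing A ∧ Module.Flat A Λ ∧
      Algebra.EssFiniteType k A ∧
      (maximalIdeal A).map (algebraMap A Λ) = maximalIdeal Λ := by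
  classical
  let K := ResidueField Λ
  haveI : CharP Λ p := charP_of_injective_algebraMap (algebraMap k Λ).injective p
  obtain ⟨k₀, F, hfs, htop⟩ := exists_formallySmooth_subfield_of_ker p K hfin
  obtain ⟨n, hn⟩ : IsNilpotent (maximalIdeal Λ) :=
    IsArtinianRing.isNilpotent_jacobson_bot.imp' id fun m h => by
      rwa [IsLocalRing.jacobson_eq_maximalIdeal (⊥ : Ideal Λ) bot_ne_top] at h
  obtain ⟨Y, hY⟩ := IsNoetherian.noetherian (maximalIdeal Λ)
  let π : Λ →ₐ[k₀] K := { toRingHom := residue Λ, commutes' := fun c => rfl }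
  have hπs : Function.Surjective π := residue_surjective
  have hπn : IsNilpotent (RingHom.ker (π : Λ →+* K)) := ⟨n, by
    rw [show RingHom.ker (π : Λ →+* K) = maximalIdeal Λ from ker_residue, hn]⟩
  haveI : Algebra.FormallySmooth k₀ K := hfs
  let σ : K →ₐ[k₀] Λ := Algebra.FormallySmooth.liftOfSurjective (AlgHom.id k₀ K) π hπs hπn
  have hσ : ∀ c, residue Λ (σ c) = c := fun c =>
    Algebra.FormallySmooth.liftOfSurjective_apply (AlgHom.id k₀ K) π hπs hπn c
  letI : Algebra K Λ := σ.toRingHom.toAlgebra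
  haveI := finite_of_coefficientField (Λ := Λ) hσ
  let e := Module.finBasis K Λ
  -- the finitely many coefficients
  let coef : Λ → Finset K := fun x => Finset.univ.image fun i => e.repr x i
  let gens : Finset K := coef 1 ∪ (E ∪ Y).biUnion coef ∪ F.biUnion (fun s => coef (algebraMap k Λ s)) ∪
    (Finset.univ.biUnion fun i => Finset.univ.biUnion fun j => coef (e i * e j))
  let K₁ : IntermediateField k K := IntermediateField.adjoin k (gens : Set K)
  have hgen : ∀ c ∈ gens, c ∈ K₁ := fun c hc => IntermediateField.subset_adjoin k _ hc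
  have hcoef : ∀ x i, e.repr x i ∈ coef x := fun x i => Finset.mem_image_of_mem _ (Finset.mem_univ i)
  let P : Λ → Prop := fun x => ∀ i, e.repr x i ∈ K₁
  have hP1 : P 1 := fun i => hgen _ (by simp [gens, hcoef 1 i])
  have hPsmul : ∀ c ∈ K₁, ∀ x, P x → P (c • x) := fun c hc x hx i => by
    rw [map_smul, Finsupp.smul_apply, smul_eq_mul]; exact mul_mem hc (hx i)
  have hPadd : ∀ x y, P x → P y → P (x + y) := fun x y hx hy i => by
    rw [map_add, Finsupp.add_apply]; exact add_mem (hx i) (hy i)
  have hPzero : P 0 := fun i => by simp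
  have hPsum : ∀ (s : Finset (Fin (Module.finrank K Λ))) (f : _ → Λ), (∀ i, P (f i)) → P (∑ i ∈ s, f i) :=
    fun s f hf => Finset.sum_induction f P hPadd hPzero fun i _ => hf i
  have hPee : ∀ i j, P (e i * e j) := fun i j l => hgen _ (by
    simp only [gens, Finset.mem_union, Finset.mem_biUnion, Finset.mem_univ, true_and]
    exact Or.inr ⟨i, j, hcoef _ l⟩)
  have hPmul : ∀ x y, P x → P y → P (x * y) := fun x y hx hy => by
    rw [← e.sum_repr x, ← e.sum_repr y, Finset.sum_mul]
    refine hPsum _ _ fun i => ?_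
    rw [Finset.mul_sum]
    exact hPsum _ _ fun j => by
      rw [smul_mul_smul_comm]; exact hPsmul _ (mul_mem (hx i) (hy j)) _ (hPee i j)
  have hPneg : ∀ x, P x → P (-x) := fun x hx i => by
    rw [map_neg, Finsupp.neg_apply]; exact neg_mem (hx i)
  have hPσ : ∀ c ∈ K₁, P (σ c) := fun c hc => by
    rw [show σ c = c • (1 : Λ) by rw [Algebra.smul_def, mul_one]; rfl]; exact hPsmul _ hc _ hP1
  let R : Subring Λ :=
    { carrier := {x | P x}, zero_mem' := hPzero, one_mem' := hP1, add_mem' := hPadd _ _,
      mul_mem' := hPmul _ _, neg_mem' := hPneg _ }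
  -- powers `p ^ n` agree with the coefficient field
  have hfrob : ∀ s : k, algebraMap k Λ s ^ p ^ n = σ (algebraMap k K s) ^ p ^ n := fun s => by
    rw [← sub_eq_zero, ← sub_pow_char_pow]
    have h1 : algebraMap k Λ s - σ (algebraMap k K s) ∈ maximalIdeal Λ := by
      rw [← residue_eq_zero_iff, map_sub, hσ, sub_eq_zero]; rfl
    have h2 := Ideal.pow_le_pow_right (Nat.lt_pow_self (n := n) (Fact.out : p.Prime).one_lt).le
      (Ideal.pow_mem_pow h1 (p ^ n))
    rw [hn] at h2
    exact h2
  -- the finite basis of `R` over `K₁`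
  have hRe : ∀ i, P (e i) := fun i j => by
    rw [e.repr_self_apply]; split_ifs <;> simp
  -- units of `Λ` in `R` are units of `R`
  letI : Algebra K₁ R := (((σ : K →+* Λ).comp K₁.val.toRingHom).codRestrict R fun c => hPσ _ c.2).toAlgebra
  let eR : Fin (Module.finrank K Λ) → R := fun i => ⟨e i, hRe i⟩
  have hcoe : ∀ (c : K₁) (x : R), ((c • x : R) : Λ) = (c : K) • (x : Λ) := fun c x => by
    rw [Algebra.smul_def, Algebra.smul_def]; rfl
  have heR : ∀ x : R, ∑ i, (⟨e.repr (x : Λ) i, x.2 i⟩ : K₁) • eR i = x := fun x => by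
    apply Subtype.ext
    rw [AddSubmonoidClass.coe_finsetSum]
    simp only [hcoe]
    exact e.sum_repr _
  haveI : Module.Finite K₁ R := ⟨⟨Finset.univ.image eR, eq_top_iff.2 fun x _ => by
    rw [← heR x]
    exact Submodule.sum_mem _ fun i _ => Submodule.smul_mem _ _
      (Submodule.subset_span (Finset.mem_image_of_mem _ (Finset.mem_univ i)))⟩⟩
  have hunit : ∀ x : R, IsUnit (x : Λ) → IsUnit x := fun x hx => by
    have hinj : Function.Injective (LinearMap.mulLeft K₁ x) := fun a b hab =>
      Subtype.ext (hx.mul_left_cancel (congrArg Subtype.val hab))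
    obtain ⟨y, hy⟩ := LinearMap.surjective_of_injective hinj 1
    exact isUnit_iff_exists_inv.2 ⟨y, hy⟩
  -- `k` lands in `R`
  let S : Subfield k :=
    { R.comap (algebraMap k Λ) with
      inv_mem' := fun s hs => by
        rcases eq_or_ne s 0 with rfl | hs0
        · simpa using hs
        obtain ⟨y, hy⟩ := (hunit ⟨_, hs⟩ ((IsUnit.mk0 s hs0).map (algebraMap k Λ))).exists_right_inv
        show algebraMap k Λ s⁻¹ ∈ R
        have h2 : algebraMap k Λ s * algebraMap k Λ s⁻¹ = algebraMap k Λ s * (y : Λ) := by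
          rw [← map_mul, mul_inv_cancel₀ hs0, map_one]; exact (congrArg Subtype.val hy).symm
        rw [((IsUnit.mk0 s hs0).map (algebraMap k Λ)).mul_left_cancel h2]
        exact y.2 }
  have hkR : ∀ s : k, algebraMap k Λ s ∈ R := fun s => by
    have hS : S = ⊤ := htop S n (fun x => by
        show algebraMap k Λ (x ^ p ^ n) ∈ R
        rw [map_pow, hfrob, ← map_pow]
        exact hPσ _ (pow_mem (K₁.algebraMap_mem x) _))
      (fun c hc => by
        show algebraMap k Λ c ∈ R
        rw [show algebraMap k Λ c = σ (algebraMap k K c) from (σ.commutes (⟨c, hc⟩ : k₀)).symm]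
        exact hPσ _ (K₁.algebraMap_mem c))
      (fun c hc i => hgen _ (by
        simp only [gens, Finset.mem_union, Finset.mem_biUnion]
        exact Or.inl (Or.inr ⟨c, hc, hcoef _ i⟩)))
    exact hS.ge (Subfield.mem_top s)
  let A : Subalgebra k Λ := { R with algebraMap_mem' := hkR }
  letI : Algebra K₁ A := inferInstanceAs (Algebra K₁ R)
  haveI : Module.Finite K₁ A := inferInstanceAs (Module.Finite K₁ R)
  haveI : IsArtinianRing A := IsArtinianRing.of_finite K₁ A
  haveI : IsLocalRing A := IsLocalRing.of_nonunits_add fun a b ha hb hab => by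
    rcases IsLocalRing.isUnit_or_isUnit_of_isUnit_add (hab.map A.val) with h | h
    · exact ha (hunit a h)
    · exact hb (hunit b h)
  refine ⟨A, inferInstance, fun x hx i => hgen _ ?_, inferInstance, ?_, ?_, ?_⟩
  · simp only [gens, Finset.mem_union, Finset.mem_biUnion]
    exact Or.inl (Or.inl (Or.inr ⟨x, Or.inl hx, hcoef _ i⟩))
  · -- flatness
    haveI : IsScalarTower K₁ A Λ := IsScalarTower.of_algebraMap_eq fun c => rfl
    let Φ : A ⊗[K₁] K →ₐ[A] Λ := Algebra.TensorProduct.lift (Algebra.ofId A Λ)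
      { toRingHom := (σ : K →+* Λ), commutes' := fun c => rfl } fun a b => Commute.all _ _
    let bu := Module.Free.chooseBasis K₁ K
    let bA : Module.Basis (Fin (Module.finrank K Λ)) K₁ A := Module.Basis.mk (v := eR)
      (by
        refine Fintype.linearIndependent_iff.2 fun g hg i => Subtype.ext ?_
        have := congrArg Subtype.val hg
        rw [AddSubmonoidClass.coe_finsetSum] at this
        simp only [hcoe] at this
        exact Fintype.linearIndependent_iff.1 e.linearIndependent (fun i => (g i : K)) this i)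
      (fun x _ => by
        rw [← heR x]
        exact Submodule.sum_mem _ fun i _ => Submodule.smul_mem _ _ (Submodule.subset_span ⟨i, rfl⟩))
    haveI : IsScalarTower K₁ K Λ := IsScalarTower.of_algebraMap_eq fun c => rfl
    have hb : (Φ.restrictScalars K₁).toLinearMap =
        ((bA.tensorProduct bu).equiv (bu.smulTower e) (Equiv.prodComm _ _)).toLinearMap := by
      refine (bA.tensorProduct bu).ext fun ⟨i, j⟩ => ?_
      rw [LinearEquiv.coe_coe, Module.Basis.equiv_apply, Module.Basis.tensorProduct_apply,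
        Equiv.prodComm_apply, Prod.swap_prod_mk, Module.Basis.smulTower_apply]
      show Φ (bA i ⊗ₜ bu j) = _
      rw [Algebra.TensorProduct.lift_tmul, Module.Basis.mk_apply, Algebra.smul_def, mul_comm]
      rfl
    refine Module.Flat.of_linearEquiv (LinearEquiv.ofBijective Φ.toLinearMap ?_).symm
    show Function.Bijective (Φ.restrictScalars K₁).toLinearMap
    rw [hb]
    exact LinearEquiv.bijective _
  · -- essentially of finite type
    let gA : Finset A := gens.attach.image (fun c => (⟨σ c.1, hPσ _ (hgen _ c.2)⟩ : A)) ∪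
      Finset.univ.image (fun i => (⟨e i, hRe i⟩ : A)) ∪
      F.image (fun s => (⟨σ (algebraMap k K s), hPσ _ (K₁.algebraMap_mem s)⟩ : A))
    rw [Algebra.essFiniteType_iff]
    refine ⟨gA, fun z => ?_⟩
    let R₀ := Algebra.adjoin k (gA : Set A)
    let Q : Subalgebra k A :=
      { carrier := {z | ∃ t ∈ R₀, IsUnit t ∧ z * t ∈ R₀}
        mul_mem' := fun {a b} ⟨t, ht, htu, h⟩ ⟨t', ht', htu', h'⟩ =>
          ⟨t * t', mul_mem ht ht', htu.mul htu', by rw [mul_mul_mul_comm]; exact mul_mem h h'⟩
        add_mem' := fun {a b} ⟨t, ht, htu, h⟩ ⟨t', ht', htu', h'⟩ =>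
          ⟨t * t', mul_mem ht ht', htu.mul htu', by
            rw [show (a + b) * (t * t') = (a * t) * t' + (b * t') * t by ring]
            exact add_mem (mul_mem h ht') (mul_mem h' ht)⟩
        algebraMap_mem' := fun s => ⟨1, one_mem _, isUnit_one, by rw [mul_one]; exact R₀.algebraMap_mem s⟩ }
    have hQinv : ∀ a b : A, a * b = 1 → a ∈ Q → b ∈ Q := fun a b hab ⟨t, ht, htu, h⟩ =>
      ⟨a * t, h, (IsUnit.of_mul_eq_one _ hab).mul htu, by
        rw [← mul_assoc, mul_comm b, hab, one_mul]; exact ht⟩
    have hgQ : ∀ a ∈ gA, a ∈ Q := fun a ha =>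
      ⟨1, one_mem _, isUnit_one, by rw [mul_one]; exact Algebra.subset_adjoin ha⟩
    let σA : K₁ →+* A := algebraMap K₁ A
    have hinvQ : ∀ c : K₁, σA c ∈ Q → σA c⁻¹ ∈ Q := fun c hc => by
      rcases eq_or_ne c 0 with rfl | hc0
      · simpa using hc
      · exact hQinv _ _ (by rw [← map_mul, mul_inv_cancel₀ hc0, map_one]) hc
    let S' : Subfield K₁ := { Q.toSubring.comap σA with inv_mem' := hinvQ }
    let S'' : Subfield k := S'.comap (algebraMap k K₁)
    have hS'' : S'' = ⊤ := htop S'' n (fun x => by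
        show σA (algebraMap k K₁ (x ^ p ^ n)) ∈ Q
        rw [show σA (algebraMap k K₁ (x ^ p ^ n)) = algebraMap k A (x ^ p ^ n) from Subtype.ext (by
          show σ (algebraMap k K (x ^ p ^ n)) = algebraMap k Λ (x ^ p ^ n)
          rw [map_pow, map_pow, map_pow, hfrob])]
        exact Q.algebraMap_mem _)
      (fun c hc => by
        show σA (algebraMap k K₁ c) ∈ Q
        rw [show σA (algebraMap k K₁ c) = algebraMap k A c from Subtype.ext (σ.commutes (⟨c, hc⟩ : k₀))]
        exact Q.algebraMap_mem _)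
      (fun c hc => hgQ _ (Finset.mem_union_right _ (Finset.mem_image_of_mem _ hc)))
    have hall : ∀ (c : K) (hc : c ∈ K₁), σA ⟨c, hc⟩ ∈ Q := fun c hc => by
      refine IntermediateField.adjoin_induction k (p := fun c hc => σA ⟨c, hc⟩ ∈ Q) ?_ ?_ ?_ ?_ ?_ hc
      · intro x hx
        exact hgQ _ (Finset.mem_union_left _ (Finset.mem_union_left _
          (Finset.mem_image.2 ⟨⟨x, hx⟩, Finset.mem_attach _ _, rfl⟩)))
      · intro x
        exact hS''.ge (Subfield.mem_top x)
      · intro x y _ _ hx hy
        rw [show (⟨x + y, add_mem ‹_› ‹_›⟩ : K₁) = ⟨x, ‹_›⟩ + ⟨y, ‹_›⟩ from rfl, map_add]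
        exact add_mem hx hy
      · intro x hx' hx
        exact hinvQ ⟨x, hx'⟩ hx
      · intro x y _ _ hx hy
        rw [show (⟨x * y, mul_mem ‹_› ‹_›⟩ : K₁) = ⟨x, ‹_›⟩ * ⟨y, ‹_›⟩ from rfl, map_mul]
        exact mul_mem hx hy
    have hz : z ∈ Q := by
      rw [← show _ = z from heR z]
      refine Subalgebra.sum_mem _ fun i _ => ?_
      rw [Algebra.smul_def]
      exact mul_mem (hall _ (z.2 i)) (hgQ _ (Finset.mem_union_left _ (Finset.mem_union_right _
        (Finset.mem_image_of_mem _ (Finset.mem_univ i)))))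
    exact hz
  · -- the maximal ideal
    refine le_antisymm (Ideal.map_le_iff_le_comap.2 fun a ha h => ha (hunit a h)) ?_
    rw [← hY, Submodule.span_le]
    intro y hy
    have hyA : y ∈ A := fun i => hgen _ (by
      simp only [gens, Finset.mem_union, Finset.mem_biUnion]
      exact Or.inl (Or.inl (Or.inr ⟨y, Or.inr hy, hcoef _ i⟩)))
    have hym : (⟨y, hyA⟩ : A) ∈ maximalIdeal A := fun h =>
      (show y ∈ maximalIdeal Λ from hY ▸ Submodule.subset_span hy) (h.map A.val)
    exact Ideal.mem_map_of_mem (algebraMap A Λ) hym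

theorem exists_subalgebra (p : ℕ) [Fact p.Prime] [CharP k p]
    (hH : Module.Finite (ResidueField Λ) (Algebra.H1Cotangent k (ResidueField Λ))) (E : Finset Λ) :
    ∃ (A : Subalgebra k Λ) (_ : IsLocalRing A), (↑E : Set Λ) ⊆ A ∧ IsArtinianRing A ∧ Module.Flat A Λ ∧
      Algebra.EssFiniteType k A ∧
      (maximalIdeal A).map (algebraMap A Λ) = maximalIdeal Λ :=
  exists_subalgebra_of_ker p (by
    rw [(Algebra.H1Cotangent.exact_δ_mapBaseChange ℤ k (ResidueField Λ)).linearMap_ker_eq, LinearMap.range_eq_map]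
    exact Submodule.FG.map _ Module.Finite.fg_top) E

end Groth.Agent.ArtinSubH7
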